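import Cfsg.Agent.Lib.Helper12.TCG.Fi22Ud3510.Main
import Cfsg.Agent.Lib.Helper12.TCG.IndexLe

/-! the upper bound for the index for Fi22Ud3510 (generated, helper12) -/

set_option autoImplicit false
set_option maxRecDepth 100000

namespace Cfsg.Agent.Lib.Helper12.TCG.Fi22Ud3510

open Cfsg.Agent.Lib.Helper12.TC Cfsg.Agent.Lib.Helper12.TCG Cfsg.Agent.Lib.Helper12.Fi22M Cfsg.Agent.Lib.Helper12.Fi22M.PresU5

/-- the subgroup generated by the subgroup words -/
noncomputable def Hs : Subgroup PresU5.Grp :=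
  Subgroup.closure {γ | ∃ w ∈ sw, γ = wprod PresU5.v w}

theorem hH : Hs = Subgroup.closure {γ | ∃ w ∈ sw, γ = wprod PresU5.v w} := rfl

theorem hletsw : lettersK 10 sw = true := by decide

/-- the subgroup has at most `cN` cosets -/
theorem index_le : Finite (PresU5.Grp ⧸ Hs) ∧ Nat.card (PresU5.Grp ⧸ Hs) ≤ cN :=
  main_leW PresU5.v 10 PresU5.cIV (by decide) PresU5.hiv PresU5.hvinv PresU5.hvge PresU5.hgen PresU5.baseL PresU5.hbase PresU5.hlet sw hletsw Hs hH F RW
    finrecs rotW chunks cD cK cR0 cR cN hdefs hchunks hcover hrelc hfin hlen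

end Cfsg.Agent.Lib.Helper12.TCG.Fi22Ud3510
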