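import Cfsg.Agent.Lib.Helper12.TCG.Fi22Ud3510.Chk0
import Cfsg.Agent.Lib.Helper12.TCG.Fi22Ud3510.Chk1
import Cfsg.Agent.Lib.Helper12.TCG.Fi22Ud3510.Chk2
import Cfsg.Agent.Lib.Helper12.TCG.Fi22Ud3510.Fin

/-! the index theorem for Fi22Ud3510 (generated, helper12) -/

set_option autoImplicit false
set_option maxRecDepth 100000
set_option linter.unusedSimpArgs false

namespace Cfsg.Agent.Lib.Helper12.TCG.Fi22Ud3510

open Cfsg.Agent.Lib.Helper12.TC Cfsg.Agent.Lib.Helper12.TCG Cfsg.Agent.Lib.Helper12.Fi22M.PresU5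

/-- the chunks of the certificate -/
def chunks : List (ℕ × List ℕ) :=
  [(19389, c0), (21389, c1), (23389, c2), (25389, c3), (27389, c4), (29389, c5), (31389, c6), (33389, c7), (35389, c8), (37389, c9), (39389, c10), (41389, c11), (43389, c12), (45389, c13), (47389, c14), (49389, c15), (51389, c16), (53389, c17), (55389, c18), (57389, c19), (59389, c20), (61389, c21), (63389, c22), (65389, c23)]

theorem hcover : coverK cD cK chunks = true := by decide +kernel

theorem hchunks : ∀ c ∈ chunks, chunkW cIV F RW cR0 c.2 c.1 = true := by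
  unfold chunks
  simp only [List.forall_mem_cons, List.not_mem_nil, false_imp_iff, implies_true, and_true]
  exact ⟨chunk0, chunk1, chunk2, chunk3, chunk4, chunk5, chunk6, chunk7, chunk8, chunk9, chunk10, chunk11, chunk12, chunk13, chunk14, chunk15, chunk16, chunk17, chunk18, chunk19, chunk20, chunk21, chunk22, chunk23⟩

end Cfsg.Agent.Lib.Helper12.TCG.Fi22Ud3510
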